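import Mathlib
import Groth.Agent.S0414
import Groth.Agent.S2080
import Groth.Agent.HomogDenseLib.Max
import Groth.Agent.GeomRedFieldLib.Stratify
import Groth.Agent.Thickening.Basic
import Groth.Agent.GrpFieldLib.Extra

/-!
# Generic properties of morphisms to locally noetherian schemes
-/

set_option autoImplicit false
set_option backward.isDefEq.respectTransparency false

noncomputable section

universe u

open CategoryTheory CategoryTheory.Limits AlgebraicGeometry
open Groth.Agent.HomogDense

namespace Groth.Agent.GrpHom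

/-- Near a maximal point of the target, a morphism is flat after reducing the target. -/
theorem exists_flat_red {X Y : Scheme.{u}} (f : X ⟶ Y) [IsLocallyNoetherian Y] [LocallyOfFiniteType f]
    [QuasiCompact f] {η : Y} (hη : IsMaxPt η) :
    ∃ (V : Y.Opens) (V' : Scheme.{u}) (j : V' ⟶ V.toScheme), η ∈ V ∧ IsClosedImmersion j ∧ Surjective j ∧
      Flat (pullback.snd (f ∣_ V) j) ∧ LocallyOfFinitePresentation (pullback.snd (f ∣_ V) j) := by
  let I := Scheme.IdealSheafData.vanishingIdeal (X := Y) ⊤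
  haveI : IsReduced I.subscheme := GeomRedFieldLib.isReduced_vanishing _
  haveI : Surjective I.subschemeι := ⟨fun y => by
    have h : y ∈ Set.range I.subschemeι.base := by
      rw [Scheme.IdealSheafData.range_subschemeι, Scheme.IdealSheafData.coe_support_vanishingIdeal]
      exact trivial
    exact h⟩
  obtain ⟨U, hU, hflat, hlfp⟩ := Groth.Agent.S0414.result (pullback.snd f I.subschemeι)
  let V : Y.Opens := ⟨I.subschemeι.base '' (U : Set I.subscheme),
    (GrpField.universallyOpen_of_surjective_closedImmersion I.subschemeι).universally_isOpenMap _ _ _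
      (IsPullback.of_id_snd) _ U.2⟩
  have hinj : Function.Injective I.subschemeι.base := I.subschemeι.isClosedEmbedding.injective
  have hpre : I.subschemeι ⁻¹ᵁ V = U := TopologicalSpace.Opens.ext (Set.preimage_image_eq _ hinj)
  haveI : IsClosedImmersion (I.subschemeι ∣_ V) := IsZariskiLocalAtTarget.restrict (P := @IsClosedImmersion) inferInstance _
  haveI : Surjective (I.subschemeι ∣_ V) := IsZariskiLocalAtTarget.restrict (P := @Surjective) inferInstance _
  have key : ∀ (P : MorphismProperty Scheme.{u}) [P.RespectsIso],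
      P (pullback.snd f I.subschemeι ∣_ U) → P (pullback.snd (f ∣_ V) (I.subschemeι ∣_ V)) := by
    intro P _ h
    rw [← hpre] at h
    have A := (isPullback_morphismRestrict (pullback.snd f I.subschemeι) (I.subschemeι ⁻¹ᵁ V)).flip.paste_horiz
      (IsPullback.of_hasPullback f I.subschemeι)
    rw [← morphismRestrict_ι] at A
    have hV' := (isPullback_morphismRestrict f V).flip
    have hl := IsPullback.of_right (h₁₁ := hV'.lift _
      ((pullback.snd f I.subschemeι ∣_ (I.subschemeι ⁻¹ᵁ V)) ≫ (I.subschemeι ∣_ V))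
      (A.w.trans (Category.assoc _ _ _).symm)) (v₁₁ := pullback.snd f I.subschemeι ∣_ (I.subschemeι ⁻¹ᵁ V))
      (by rw [hV'.lift_fst]; exact A) (hV'.lift_snd _ _ _) hV'
    rw [← hl.isoPullback_inv_snd, P.cancel_left_of_respectsIso]
    exact h
  refine ⟨V, _, I.subschemeι ∣_ V, ?_, inferInstance, inferInstance, key @Flat hflat,
    key @LocallyOfFinitePresentation hlfp⟩
  haveI : IsLocallyNoetherian I.subscheme := LocallyOfFiniteType.isLocallyNoetherian I.subschemeι
  obtain ⟨x, hx⟩ := I.subschemeι.surjective η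
  refine ⟨x, isMax_mem_of_dense U.2 hU (fun z hz => hinj ?_), hx⟩
  rw [hx]
  exact hη _ (hx ▸ hz.map I.subschemeι.continuous)

/-- A morphism is universally open near a point over a maximal point of a locally noetherian target. -/
theorem exists_open_universallyOpen {X Y : Scheme.{u}} (f : X ⟶ Y) [IsLocallyNoetherian Y]
    [LocallyOfFiniteType f] (x : X) (hx : IsMaxPt (f.base x)) :
    ∃ W : X.Opens, x ∈ W ∧ UniversallyOpen (W.ι ≫ f) := by
  obtain ⟨W₀, hW₀, hxW₀, -⟩ := exists_isAffineOpen_mem_and_subset (X := X) (x := x) (U := ⊤) trivial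
  haveI : IsAffine W₀.toScheme := hW₀
  haveI : IsLocallyNoetherian W₀.toScheme := LocallyOfFiniteType.isLocallyNoetherian (W₀.ι ≫ f)
  haveI : IsNoetherian W₀.toScheme := {}
  haveI : TopologicalSpace.NoetherianSpace W₀.toScheme := inferInstance
  haveI : QuasiCompact (W₀.ι ≫ f) := inferInstance
  obtain ⟨V, V', j, hV, hj₁, hj₂, hfl, hlfp⟩ := exists_flat_red (W₀.ι ≫ f) (η := f.base x) hx
  haveI : UniversallyOpen j := GrpField.universallyOpen_of_surjective_closedImmersion j
  haveI : UniversallyOpen ((W₀.ι ≫ f) ∣_ V) := by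
    haveI : Surjective (pullback.fst ((W₀.ι ≫ f) ∣_ V) j) := inferInstance
    refine ThickeningLib.universallyOpen_of_comp_surjective (pullback.fst ((W₀.ι ≫ f) ∣_ V) j) _ ?_
    rw [pullback.condition]
    infer_instance
  refine ⟨W₀.ι ''ᵁ ((W₀.ι ≫ f) ⁻¹ᵁ V), ⟨⟨x, hxW₀⟩, hV, rfl⟩, ?_⟩
  let W := W₀.ι ''ᵁ ((W₀.ι ≫ f) ⁻¹ᵁ V)
  let m : ((W₀.ι ≫ f) ⁻¹ᵁ V).toScheme ⟶ X := ((W₀.ι ≫ f) ⁻¹ᵁ V).ι ≫ W₀.ι
  have hm : Set.range m.base = Set.range W.ι.base := by
    refine ((Set.range_comp W₀.ι.base ((W₀.ι ≫ f) ⁻¹ᵁ V).ι.base).trans ?_).trans (Scheme.Opens.range_ι W).symm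
    exact congrArg (W₀.ι.base '' ·) (Scheme.Opens.range_ι _)
  rw [← IsOpenImmersion.isoOfRangeEq_inv_fac m W.ι hm, Category.assoc,
    show m ≫ f = ((W₀.ι ≫ f) ∣_ V) ≫ V.ι by rw [morphismRestrict_ι, Category.assoc]]
  infer_instance

/-- A quasi-compact morphism with finite fibre over a maximal point is finite near it. -/
theorem exists_open_isFinite {X Y : Scheme.{u}} (f : X ⟶ Y) [LocallyOfFiniteType f] [QuasiCompact f]
    [QuasiSeparated f] [LocallyQuasiFinite f] {η : Y} (hη : IsMaxPt η) :
    ∃ V : Y.Opens, η ∈ V ∧ IsFinite (f ∣_ V) := by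
  obtain ⟨V, -, hV, hf⟩ := (Groth.Agent.S2080.result f η (closure_mem_irreducibleComponents hη)).mp
    (f.finite_preimage_singleton η)
  exact ⟨V, hV, hf⟩

end Groth.Agent.GrpHom
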