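import Mathlib
import Groth.Agent.GrpFieldLib.Extra
import Groth.Agent.FFDescLib.Closure
import Groth.Agent.FinHomLib.Affine
import Groth.Agent.SubDescLib.Main

/-!
# The image of a quasi-compact homomorphism of group schemes over a field
-/

set_option autoImplicit false
set_option backward.isDefEq.respectTransparency false

noncomputable section

universe u

open CategoryTheory CategoryTheory.Limits MonoidalCategory CartesianMonoidalCategory AlgebraicGeometry
open scoped MonObj
open Groth.Agent.HomogDense Groth.Agent.GrpField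

namespace Groth.Agent.GrpHom

variable {k : Type u} [Field k] {G H : Over (Spec (CommRingCat.of k))}

theorem dominant_of_eq_toImage {X Y : Scheme.{u}} (f : X ⟶ Y) [QuasiCompact f] :
    IsSchemeTheoreticallyDominant f.toImage := by
  let j := f.imageι
  refine ⟨Scheme.IdealSheafData.ext_of_iSup_eq_top
    (fun U : Y.affineOpens => ⟨j ⁻¹ᵁ U.1, U.2.preimage j⟩) ?_ ?_⟩
  · exact (Scheme.Hom.preimage_iSup j _).symm.trans (by rw [iSup_affineOpens_eq_top]; rfl)
  · intro U
    rw [Scheme.Hom.ker_apply, Scheme.IdealSheafData.ideal_bot, Pi.bot_apply]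
    exact (RingHom.injective_iff_ker_eq_bot _).1 (f.toImage_app_injective U)

/-- Maximal points lie in the range of a quasi-compact dominant morphism. -/
theorem mem_range_of_isMax {X Y : Scheme.{u}} (f : X ⟶ Y) [QuasiCompact f] (hf : DenseRange f.base)
    {y : Y} (hy : IsMaxPt y) : y ∈ Set.range f.base := by
  obtain ⟨x, hx⟩ := FFDescLib.exists_specializes_of_mem_closure_range f (y := y) (hf y)
  exact ⟨x, hy _ hx⟩

/-- A quasi-compact dominant homomorphism over a field is surjective. -/
theorem surjective_of_denseRange [GrpObj G] [GrpObj H] (f : G ⟶ H) [IsMonHom f] [QuasiCompact f.left]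
    (hf : DenseRange f.left.base) : Surjective f.left := by
  refine ⟨fun x => ?_⟩
  obtain ⟨z, hz, hz₁, hz₂⟩ := exists_mul_max x
  have hr : z ∈ Set.range (f ⊗ₘ f).left.base := by
    rw [Over.tensorHom_left]
    refine (Set.ext_iff.mp (Scheme.Pullback.range_map _ _ _ _ _ _ _ _ _) z).mpr ?_
    exact ⟨mem_range_of_isMax f.left hf hz₁, mem_range_of_isMax f.left hf hz₂⟩
  obtain ⟨w, hw⟩ := hr
  refine ⟨μ[G].left.base w, ?_⟩
  have e : μ[G].left ≫ f.left = (f ⊗ₘ f).left ≫ μ[H].left := by
    rw [← Over.comp_left, ← Over.comp_left, IsMonHom.mul_hom]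
  exact (congrArg (fun m => m.base w) e).trans ((congrArg μ[H].left.base hw).trans hz)

theorem dominant_whiskerLeft (X : Over (Spec (CommRingCat.of k))) {T T' : Over (Spec (CommRingCat.of k))}
    (g : T' ⟶ T) [IsSchemeTheoreticallyDominant g.left] [QuasiCompact g.left] :
    IsSchemeTheoreticallyDominant (X ◁ g).left := by
  haveI : Flat (pullback.snd X.hom T.hom) := inferInstance
  exact IsSchemeTheoreticallyDominant.of_isPullback (FinHom.isPullback_whiskerLeft X g).flip

theorem qc_whiskerLeft (X : Over (Spec (CommRingCat.of k))) {T T' : Over (Spec (CommRingCat.of k))}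
    (g : T' ⟶ T) [QuasiCompact g.left] : QuasiCompact (X ◁ g).left :=
  MorphismProperty.of_isPullback (FinHom.isPullback_whiskerLeft X g).flip ‹_›

theorem dominant_tensorHom {T T' : Over (Spec (CommRingCat.of k))} (g : T' ⟶ T)
    [IsSchemeTheoreticallyDominant g.left] [QuasiCompact g.left] :
    IsSchemeTheoreticallyDominant (g ⊗ₘ g).left := by
  have h : g ⊗ₘ g = ((β_ T' T').hom ≫ (T' ◁ g) ≫ (β_ T' T).hom) ≫ (T ◁ g) := by
    rw [MonoidalCategory.tensorHom_def]
    congr 1
    exact CartesianMonoidalCategory.hom_ext _ _ (by simp) (by simp)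
  haveI := dominant_whiskerLeft T g
  haveI := dominant_whiskerLeft T' g
  haveI : IsIso (β_ T' T).hom.left := ((Over.forget _).mapIso (β_ T' T)).isIso_hom
  haveI : IsIso (β_ T' T').hom.left := ((Over.forget _).mapIso (β_ T' T')).isIso_hom
  rw [h, Over.comp_left, Over.comp_left, Over.comp_left]
  infer_instance

/-- Factorisation through a closed immersion can be checked after a dominant morphism. -/
theorem exists_factor {S : Scheme.{u}} {C H Z Z' : Over S} (i : C ⟶ H) [IsClosedImmersion i.left] (d : Z' ⟶ Z)
    [IsSchemeTheoreticallyDominant d.left] (h : Z ⟶ H) (h' : Z' ⟶ C) (e : d ≫ h = h' ≫ i) :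
    ∃ l : Z ⟶ C, l ≫ i = h := by
  have hle : i.left.ker ≤ h.left.ker := by
    have h1 := Scheme.Hom.le_ker_comp h'.left i.left
    rw [← Over.comp_left, ← e, Over.comp_left, Scheme.Hom.ker_comp, d.left.ker_eq_bot,
      Scheme.IdealSheafData.map_bot] at h1
    exact h1
  refine ⟨Over.homMk (IsClosedImmersion.lift i.left h.left hle) ?_,
    Over.OverMorphism.ext (IsClosedImmersion.lift_fac i.left h.left hle)⟩
  rw [← Over.w i, IsClosedImmersion.lift_fac_assoc]
  exact Over.w h

/-- The schematic image of a quasi-compact homomorphism over a field is a closed subgroup, onto which the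
homomorphism is surjective. -/
theorem exists_image [GrpObj G] [GrpObj H] (f : G ⟶ H) [IsMonHom f] [QuasiCompact f.left] :
    ∃ (C : Over (Spec (CommRingCat.of k))) (_ : GrpObj C) (i : C ⟶ H) (p : G ⟶ C),
      IsMonHom i ∧ IsMonHom p ∧ p ≫ i = f ∧ IsClosedImmersion i.left ∧
      IsSchemeTheoreticallyDominant p.left ∧ QuasiCompact p.left ∧ Surjective p.left := by
  let C : Over (Spec (CommRingCat.of k)) := Over.mk (f.left.imageι ≫ H.hom)
  let i : C ⟶ H := Over.homMk f.left.imageι rfl
  let p : G ⟶ C := Over.homMk f.left.toImage (by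
    show f.left.toImage ≫ f.left.imageι ≫ H.hom = G.hom
    rw [Scheme.Hom.toImage_imageι_assoc]
    exact Over.w f)
  haveI hi : IsClosedImmersion i.left := inferInstanceAs (IsClosedImmersion f.left.imageι)
  haveI hd : IsSchemeTheoreticallyDominant p.left := dominant_of_eq_toImage f.left
  haveI hq : QuasiCompact p.left := inferInstanceAs (QuasiCompact f.left.toImage)
  haveI : Mono i := Over.mono_of_mono_left i
  haveI := dominant_tensorHom p
  have hpi : p ≫ i = f := Over.OverMorphism.ext (Scheme.Hom.toImage_imageι f.left)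
  obtain ⟨_, hmon⟩ := SubDesc.exists_grpObj_of_mono i
    (exists_factor i (p ⊗ₘ p) _ (μ[G] ≫ p) (by
      rw [Category.assoc, hpi, IsMonHom.mul_hom, MonObj.comp_mul, tensorHom_fst_assoc, tensorHom_snd_assoc, hpi,
        Hom.mul_def]
      congr 1))
    ⟨η[G] ≫ p, by rw [Category.assoc, hpi, IsMonHom.one_hom, Hom.one_def,
      toUnit_unique (toUnit _) (𝟙 _), Category.id_comp]⟩
    (exists_factor i p _ (ι[G] ≫ p) (by
      rw [Category.assoc, hpi, GrpObj.comp_inv, hpi, Hom.inv_def, GrpObj.inv_hom]))
  have hp : IsMonHom p := by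
    constructor
    · rw [← cancel_mono i, Category.assoc, hpi, IsMonHom.one_hom, IsMonHom.one_hom]
    · rw [← cancel_mono i, Category.assoc, Category.assoc, hpi, IsMonHom.mul_hom, IsMonHom.mul_hom,
        ← Category.assoc (p ⊗ₘ p), tensorHom_comp_tensorHom, hpi]
  haveI := hp
  haveI : IsDominant p.left := inferInstance
  exact ⟨C, _, i, p, hmon, hp, hpi, hi, hd, hq, surjective_of_denseRange p p.left.denseRange⟩

/-- The image of a quasi-compact homomorphism over a field is closed. -/
theorem isClosed_range [GrpObj G] [GrpObj H] (f : G ⟶ H) [IsMonHom f] [QuasiCompact f.left] :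
    IsClosed (Set.range f.left.base) := by
  obtain ⟨C, _, i, p, _, _, hpi, _, _, _, _⟩ := exists_image f
  rw [← hpi, Over.comp_left, Scheme.Hom.comp_base, TopCat.coe_comp, Set.range_comp, p.left.surjective.range_eq,
    Set.image_univ]
  exact i.left.isClosedEmbedding.isClosed_range

end Groth.Agent.GrpHom
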