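import Mathlib
import Groth.Agent.HomTranslLib.Basic
import Groth.Agent.AlgSpLib.AffineDescent
import Groth.Agent.Thickening.Basic

/-!
# Properties of homomorphisms of group schemes spread from an open subset
-/

set_option autoImplicit false
set_option backward.isDefEq.respectTransparency false

noncomputable section

universe u

open CategoryTheory CategoryTheory.Limits MonoidalCategory CartesianMonoidalCategory AlgebraicGeometry
open scoped MonObj

namespace Groth.Agent.GrpHom

variable {S : Scheme.{u}} {G C : Over S} [GrpObj G] [GrpObj C]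

/-- A property of a surjective homomorphism holding over a non-empty open of the target holds everywhere. -/
theorem of_open_target (P : MorphismProperty Scheme.{u}) [P.IsStableUnderBaseChange]
    [P.DescendsAlong (@Surjective ⊓ @Flat ⊓ @LocallyOfFinitePresentation)]
    [Flat G.hom] [LocallyOfFinitePresentation G.hom] [Subsingleton ↥S]
    (p : G ⟶ C) [IsMonHom p] [Surjective p.left] (V : C.left.Opens) (hV : (V : Set C.left).Nonempty)
    (hP : P (p.left ∣_ V)) : P p.left := by
  let a := HomTransl.homAction p
  haveI := HomTransl.flat_snd (G := G) C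
  haveI := HomTransl.lfp_snd (G := G) C
  haveI : IsIso (HomTransl.φY a).hom.left := ((Over.forget _).mapIso (HomTransl.φY a)).isIso_hom
  let T : (G ⊗ C).left.Opens := (snd G C).left ⁻¹ᵁ V
  let e := ((HomTransl.φY a).hom ≫ snd G C).left
  haveI : Flat e := by
    show Flat ((HomTransl.φY a).hom ≫ snd G C).left
    rw [Over.comp_left]; infer_instance
  haveI : LocallyOfFinitePresentation e := by
    show LocallyOfFinitePresentation ((HomTransl.φY a).hom ≫ snd G C).left
    rw [Over.comp_left]; infer_instance
  let q : T.toScheme ⟶ C.left := T.ι ≫ e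
  have hq : (@Surjective ⊓ @Flat ⊓ @LocallyOfFinitePresentation : MorphismProperty Scheme.{u}) q := by
    refine ⟨⟨⟨fun z => ?_⟩, inferInstance⟩, inferInstance⟩
    obtain ⟨v, hv⟩ := hV
    obtain ⟨r, hr₁, hr₂⟩ := HomTransl.exists_point (G := C) v z (Subsingleton.elim _ _)
    haveI : Surjective (p ▷ C).left := by
      have h : p ▷ C = (β_ G C).hom ≫ (C ◁ p) ≫ (β_ C C).hom :=
        CartesianMonoidalCategory.hom_ext _ _ (by simp) (by simp)
      haveI : Surjective (C ◁ p).left :=
        MorphismProperty.of_isPullback (FinHom.isPullback_whiskerLeft C p).flip ‹_›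
      haveI : IsIso (β_ G C).hom.left := ((Over.forget _).mapIso (β_ G C)).isIso_hom
      haveI : IsIso (β_ C C).hom.left := ((Over.forget _).mapIso (β_ C C)).isIso_hom
      rw [h, Over.comp_left, Over.comp_left]
      infer_instance
    obtain ⟨w, hw⟩ := (p ▷ C).left.surjective r
    have e₁ : (p ▷ C).left ≫ (snd C C).left = (snd G C).left := by rw [← Over.comp_left, whiskerRight_snd]
    have hwT : w ∈ T := by
      show (snd G C).left.base w ∈ V
      rw [← e₁, Scheme.Hom.comp_apply, hw, hr₁]
      exact hv
    refine ⟨⟨w, hwT⟩, ?_⟩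
    have e₂ : e = (p ▷ C).left ≫ ((HomTransl.φG (G := C)).hom ≫ snd C C).left := by
      show ((HomTransl.φY a).hom ≫ snd G C).left = _
      rw [← Over.comp_left]
      congr 1
      simp [HomTransl.φY, HomTransl.φG, GrpShear.shear, GrpShear.mulAction, a, HomTransl.homAction]
    show e.base w = z
    rw [e₂, Scheme.Hom.comp_apply, hw]
    exact hr₂
  let f' := (G ◁ p).left
  have hsq : IsPullback ((f' ⁻¹ᵁ T).ι ≫ ((HomTransl.φG (G := G)).hom ≫ snd G G).left) (f' ∣_ T) p.left q :=
    (isPullback_morphismRestrict f' T).flip.paste_horiz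
      (HomTransl.isPullback_act a p (HomTransl.hom_equivariant p))
  refine MorphismProperty.of_isPullback_of_descendsAlong hsq.flip hq ?_
  have h1 : IsPullback ((f' ⁻¹ᵁ T).ι ≫ (snd G G).left) (f' ∣_ T) p.left ((snd G C).left ∣_ V ≫ V.ι) := by
    rw [morphismRestrict_ι]
    exact (isPullback_morphismRestrict f' T).flip.paste_horiz (HomTransl.isPullback_snd p)
  have hV' := (isPullback_morphismRestrict p.left V).flip
  have hl := IsPullback.of_right (h₁₁ := hV'.lift _ ((f' ∣_ T) ≫ ((snd G C).left ∣_ V))
    (h1.w.trans (Category.assoc _ _ _).symm)) (v₁₁ := f' ∣_ T)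
    (by rw [hV'.lift_fst]; exact h1) (hV'.lift_snd _ _ _) hV'
  exact MorphismProperty.of_isPullback hl hP

/-- Universal openness of a homomorphism spreads from a non-empty open of the source. -/
theorem universallyOpen_of_open [Flat G.hom] [LocallyOfFinitePresentation G.hom] [Subsingleton ↥S]
    (p : G ⟶ C) [IsMonHom p] (W : G.left.Opens) (hW : (W : Set G.left).Nonempty)
    [UniversallyOpen (W.ι ≫ p.left)] : UniversallyOpen p.left := by
  obtain ⟨V, π, T, d, q, T', e, k, k', _, _, _, hc, _, _, sq⟩ :=
    HomTransl.exists_cover (HomTransl.hom_equivariant p) W hW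
  haveI : UniversallyOpen d := MorphismProperty.of_isPullback sq inferInstance
  refine ThickeningLib.universallyOpen_of_comp_surjective π p.left ?_
  rw [hc]
  infer_instance

end Groth.Agent.GrpHom
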