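import Mathlib
import Groth.Agent.GrpHomLib.Image
import Groth.Agent.GrpHomLib.Propagate
import Groth.Agent.GrpHomLib.Generic
import Groth.Agent.GrpFieldLib.Comps

/-!
# Homomorphisms of group schemes locally of finite type over a field
-/

set_option autoImplicit false
set_option backward.isDefEq.respectTransparency false

noncomputable section

universe u

open CategoryTheory CategoryTheory.Limits MonoidalCategory CartesianMonoidalCategory AlgebraicGeometry
open scoped MonObj
open Groth.Agent.HomogDense

namespace Groth.Agent.GrpHom

variable {k : Type u} [Field k] {G H : Over (Spec (CommRingCat.of k))} [GrpObj G] [GrpObj H]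
  [LocallyOfFiniteType G.hom] [LocallyOfFiniteType H.hom] (u : G ⟶ H) [IsMonHom u]

include k in
omit [GrpObj G] [GrpObj H] [IsMonHom u] in
theorem lft_left : LocallyOfFiniteType u.left := by
  haveI : LocallyOfFiniteType (u.left ≫ H.hom) := by rw [Over.w u]; infer_instance
  exact locallyOfFiniteType_of_comp u.left H.hom

/-- A quasi-compact quasi-finite homomorphism over a field is finite. -/
theorem isFinite_of_lqf [QuasiCompact u.left] [LocallyQuasiFinite u.left] : IsFinite u.left := by
  obtain ⟨C, _, i, p, _, _, hpi, _, _, _, _⟩ := exists_image u
  haveI : LocallyOfFiniteType C.hom := by rw [← Over.w i]; infer_instance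
  haveI : IsLocallyNoetherian C.left := LocallyOfFiniteType.isLocallyNoetherian C.hom
  haveI : IsLocallyNoetherian G.left := LocallyOfFiniteType.isLocallyNoetherian G.hom
  haveI : LocallyOfFiniteType p.left := lft_left p
  haveI : LocallyQuasiFinite (p.left ≫ i.left) := by rw [← Over.comp_left, hpi]; infer_instance
  haveI : LocallyQuasiFinite p.left := LocallyQuasiFinite.of_comp p.left i.left
  haveI : QuasiSeparated p.left := inferInstance
  haveI : LocallyOfFinitePresentation G.hom := LocallyOfFinitePresentation.iff_locallyOfFiniteType.2 inferInstance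
  obtain ⟨pη, hη, -⟩ := exists_isMax_specializes
    (η[C].left.base (IsLocalRing.closedPoint k))
  obtain ⟨V, hV, hfin⟩ := exists_open_isFinite p.left hη
  haveI : IsFinite p.left := of_open_target @IsFinite p V ⟨pη, hV⟩ hfin
  rw [← hpi, Over.comp_left]
  infer_instance

/-- A quasi-compact monomorphism of group schemes over a field is a closed immersion. -/
theorem isClosedImmersion_of_mono [QuasiCompact u.left] [Mono u.left] : IsClosedImmersion u.left := by
  haveI := lft_left u
  haveI : LocallyQuasiFinite u.left := inferInstance
  haveI := isFinite_of_lqf u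
  exact (IsClosedImmersion.iff_isFinite_and_mono _).mpr ⟨inferInstance, inferInstance⟩

/-- A homomorphism over a field with open image is universally open. -/
theorem universallyOpen_of_isOpen_range (hu : IsOpen (Set.range u.left.base)) : UniversallyOpen u.left := by
  haveI : IsLocallyNoetherian H.left := LocallyOfFiniteType.isLocallyNoetherian H.hom
  haveI : LocallyOfFinitePresentation G.hom := LocallyOfFinitePresentation.iff_locallyOfFiniteType.2 inferInstance
  haveI := lft_left u
  obtain ⟨_, hη, x, rfl⟩ := exists_isMax_mem hu ⟨_, η[G].left.base (IsLocalRing.closedPoint k), rfl⟩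
  obtain ⟨W, hxW, hW⟩ := exists_open_universallyOpen u.left x hη
  exact universallyOpen_of_open u W ⟨x, hxW⟩

/-- A homomorphism over a field which is quasi-finite at one point is quasi-finite. -/
theorem lqf_of_quasiFiniteAt (x : G.left) (hx : u.left.QuasiFiniteAt x) : LocallyQuasiFinite u.left := by
  haveI := lft_left u
  rw [← Scheme.Hom.quasiFiniteLocus_eq_top_iff]
  refine top_le_iff.mp fun w _ => ?_
  exact HomTransl.propagate (HomTransl.hom_equivariant u) (fun g x => g.QuasiFiniteAt x)
    (fun _ _ _ _ sq x => RichLib.QFLocus.quasiFiniteAt_iff_of_isPullback sq x) x w (Subsingleton.elim _ _) hx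

end Groth.Agent.GrpHom
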