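import Mathlib
import Groth.Prelude
import Groth.Agent.GrpHomLib.Field
import Groth.Agent.GrpFTOpenLib.Artin
import Groth.Agent.FComplLib.Thicken
import Groth.Agent.NeutralSchLib.Artin

/-!
# Homomorphisms of group schemes locally of finite type over an artinian local ring
-/

set_option autoImplicit false
set_option backward.isDefEq.respectTransparency false

noncomputable section

universe u

open CategoryTheory CategoryTheory.Limits MonoidalCategory CartesianMonoidalCategory AlgebraicGeometry
open scoped MonObj

namespace Groth.Agent.GrpHom

variable {A : Type u} [CommRing A] [IsArtinianRing A] [IsLocalRing A] {G H : Over (Spec (CommRingCat.of A))}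
  [GrpObj G] [GrpObj H] [LocallyOfFiniteType G.hom] [LocallyOfFiniteType H.hom] (u : G ⟶ H) [IsMonHom u]

/-- The reduction of `G` to the residue field. -/
abbrev redObj (G : Over (Spec (CommRingCat.of A))) : Over (Spec (CommRingCat.of (IsLocalRing.ResidueField A))) :=
  (Over.pullback (GrpFTOpen.closedPt A)).obj G

instance grpRed (G : Over (Spec (CommRingCat.of A))) [GrpObj G] : GrpObj (redObj G) := Functor.grpObjObj

/-- The reduction of a homomorphism. -/
abbrev redHom : redObj G ⟶ redObj H := (Over.pullback (GrpFTOpen.closedPt A)).map u

instance : IsMonHom (redHom u) := inferInstanceAs (IsMonHom ((Over.pullback (GrpFTOpen.closedPt A)).map u))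

instance lftRed : LocallyOfFiniteType (redObj G).hom :=
  MorphismProperty.pullback_snd (P := @LocallyOfFiniteType) _ _ ‹_›

omit [GrpObj G] [GrpObj H] [LocallyOfFiniteType G.hom] [LocallyOfFiniteType H.hom] [IsMonHom u] in
theorem isPullback_red : IsPullback (pullback.fst G.hom (GrpFTOpen.closedPt A)) (redHom u).left u.left
    (pullback.fst H.hom (GrpFTOpen.closedPt A)) := by
  refine IsPullback.of_bot (v₂₁ := pullback.snd H.hom (GrpFTOpen.closedPt A)) (v₂₂ := H.hom)
    (h₃₁ := GrpFTOpen.closedPt A) ?_ ?_ (IsPullback.of_hasPullback _ _)
  · have h1 : (redHom u).left ≫ pullback.snd H.hom (GrpFTOpen.closedPt A) =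
        pullback.snd G.hom (GrpFTOpen.closedPt A) := Over.w (redHom u)
    rw [h1, Over.w u]
    exact IsPullback.of_hasPullback _ _
  · show _ = pullback.lift _ _ _ ≫ pullback.fst _ _
    rw [pullback.lift_fst]

omit [GrpObj G] [LocallyOfFiniteType G.hom] in
theorem fst_closed_surjective : IsClosedImmersion (pullback.fst G.hom (GrpFTOpen.closedPt A)) ∧
    Surjective (pullback.fst G.hom (GrpFTOpen.closedPt A)) := by
  obtain ⟨⟨_, _⟩, -⟩ := GrpFTOpen.finiteOrder_closedPt A
  exact ⟨MorphismProperty.pullback_fst (P := @IsClosedImmersion) _ _ ‹_›,
    MorphismProperty.pullback_fst (P := @Surjective) _ _ ‹_›⟩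

instance closed_fst (G : Over (Spec (CommRingCat.of A))) :
    IsClosedImmersion (pullback.fst G.hom (GrpFTOpen.closedPt A)) := (fst_closed_surjective (G := G)).1

instance surjective_fst (G : Over (Spec (CommRingCat.of A))) :
    Surjective (pullback.fst G.hom (GrpFTOpen.closedPt A)) := (fst_closed_surjective (G := G)).2

instance qcRed [QuasiCompact u.left] : QuasiCompact (redHom u).left :=
  MorphismProperty.of_isPullback (isPullback_red u) ‹_›

omit [LocallyOfFiniteType H.hom] in
theorem isFinite_of_red [LocallyOfFiniteType u.left] [QuasiCompact u.left] [IsFinite (redHom u).left] :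
    IsFinite u.left := by
  haveI : UniversallyClosed u.left := FComplLib.universallyClosed_of_thickening (isPullback_red u)
  haveI : IsSeparated u.left := FComplLib.isSeparated_of_thickening (isPullback_red u)
  haveI : IsProper u.left := {}
  haveI : LocallyQuasiFinite u.left := by
    rw [← Scheme.Hom.quasiFiniteLocus_eq_top_iff]
    refine top_le_iff.mp fun x _ => ?_
    obtain ⟨x', rfl⟩ := (pullback.fst G.hom (GrpFTOpen.closedPt A)).surjective x
    exact (RichLib.QFLocus.quasiFiniteAt_iff_of_isPullback (isPullback_red u) x').mp
      ((redHom u).left.quasiFiniteAt x')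
  exact IsFinite.of_isProper_of_locallyQuasiFinite _

theorem lft_left' : LocallyOfFiniteType u.left := by
  haveI : LocallyOfFiniteType (u.left ≫ H.hom) := by rw [Over.w u]; infer_instance
  exact locallyOfFiniteType_of_comp u.left H.hom

/-- A quasi-compact monomorphism of group schemes over an artinian local ring is a closed immersion. -/
theorem isClosedImmersion_of_mono_artinian [QuasiCompact u.left] [Mono u.left] : IsClosedImmersion u.left := by
  haveI := lft_left' u
  haveI : Mono (redHom u).left :=
    MorphismProperty.of_isPullback (P := MorphismProperty.monomorphisms Scheme.{u}) (isPullback_red u) ‹_›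
  haveI := isClosedImmersion_of_mono (redHom u)
  haveI := isFinite_of_red u
  exact (IsClosedImmersion.iff_isFinite_and_mono _).mpr ⟨inferInstance, inferInstance⟩

/-- A homomorphism over an artinian local ring with open image is universally open. -/
theorem universallyOpen_artinian (hu : IsOpen (Set.range u.left.base)) : UniversallyOpen u.left := by
  haveI : UniversallyOpen (redHom u).left := by
    refine universallyOpen_of_isOpen_range (redHom u) ?_
    have h := Scheme.image_preimage_eq_of_isPullback (isPullback_red u) Set.univ
    rw [Set.preimage_univ, Set.image_univ, Set.image_univ] at h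
    refine (congrArg IsOpen h).mpr ?_
    exact hu.preimage (pullback.fst H.hom (GrpFTOpen.closedPt A)).continuous
  haveI := GrpField.universallyOpen_of_surjective_closedImmersion (pullback.fst H.hom (GrpFTOpen.closedPt A))
  refine ThickeningLib.universallyOpen_of_comp_surjective (pullback.fst G.hom (GrpFTOpen.closedPt A)) u.left ?_
  rw [(isPullback_red u).w]
  infer_instance

/-- The image of a quasi-compact homomorphism over an artinian local ring is closed. -/
theorem isClosed_range_artinian [QuasiCompact u.left] : IsClosed (Set.range u.left.base) := by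
  have h : Set.range u.left.base =
      (pullback.fst H.hom (GrpFTOpen.closedPt A)).base '' Set.range (redHom u).left.base := by
    have hc : ∀ y, u.left.base ((pullback.fst G.hom (GrpFTOpen.closedPt A)).base y) =
        (pullback.fst H.hom (GrpFTOpen.closedPt A)).base ((redHom u).left.base y) := fun y => by
      exact congrArg (fun m => m.base y) (isPullback_red u).w
    ext w
    constructor
    · rintro ⟨x, rfl⟩
      obtain ⟨y, rfl⟩ := (pullback.fst G.hom (GrpFTOpen.closedPt A)).surjective x
      exact ⟨_, ⟨y, rfl⟩, (hc y).symm⟩
    · rintro ⟨_, ⟨y, rfl⟩, rfl⟩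
      exact ⟨_, hc y⟩
  rw [h]
  exact (pullback.fst H.hom (GrpFTOpen.closedPt A)).isClosedEmbedding.isClosedMap _ (isClosed_range (redHom u))

/-- A quasi-compact homomorphism over an artinian local ring is finite iff its kernel is discrete. -/
theorem isFinite_iff_discrete_ker [QuasiCompact u.left] :
    IsFinite u.left ↔
      DiscreteTopology ↥(pullback u.left (η[H] : 𝟙_ (Over (Spec (CommRingCat.of A))) ⟶ H).left) := by
  haveI : Subsingleton ↥(Spec (CommRingCat.of A)) := NeutralSch.subsingleton_spec A
  haveI := lft_left' u
  let e : Spec (CommRingCat.of A) ⟶ H.left := (η[H] : 𝟙_ (Over (Spec (CommRingCat.of A))) ⟶ H).left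
  let g : pullback u.left e ⟶ Spec (CommRingCat.of A) := pullback.snd u.left e
  show _ ↔ DiscreteTopology ↥(pullback u.left e)
  constructor
  · intro h
    haveI : IsFinite g := MorphismProperty.pullback_snd (P := @IsFinite) _ _ h
    let pt : ↥(Spec (CommRingCat.of A)) := IsLocalRing.closedPoint A
    refine DiscreteTopology.of_continuous_injective
      (f := fun z => (g.fiberHomeo pt).symm ⟨z, Set.mem_singleton_iff.mpr (Subsingleton.elim _ _)⟩)
      (by fun_prop) (fun a b hab => congrArg Subtype.val ((g.fiberHomeo pt).symm.injective hab))
  · intro hd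
    obtain ⟨z, -, -⟩ := Scheme.Pullback.exists_preimage_pullback (f := u.left) (g := e)
      (η[G].left.base (IsLocalRing.closedPoint A)) (IsLocalRing.closedPoint A)
      (by rw [← Scheme.Hom.comp_apply, ← Over.comp_left, IsMonHom.one_hom]; rfl)
    have hz : g.QuasiFiniteAt z := by
      haveI : DiscreteTopology ↥(g.fiber (g.base z)) :=
        DiscreteTopology.of_continuous_injective (g.fiberι _).continuous (g.fiberι _).isEmbedding.injective
      exact Scheme.Hom.quasiFiniteAt_iff_isOpen_singleton_asFiber.mpr (isOpen_discrete _)
    obtain ⟨x', hx'⟩ := (pullback.fst G.hom (GrpFTOpen.closedPt A)).surjective ((pullback.fst u.left e).base z)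
    have h2 : (redHom u).left.QuasiFiniteAt x' := by
      rw [RichLib.QFLocus.quasiFiniteAt_iff_of_isPullback (isPullback_red u) x', hx']
      exact (RichLib.QFLocus.quasiFiniteAt_iff_of_isPullback (IsPullback.of_hasPullback u.left e) z).mp hz
    haveI := lqf_of_quasiFiniteAt (redHom u) x' h2
    haveI := isFinite_of_lqf (redHom u)
    exact isFinite_of_red u

end Groth.Agent.GrpHom
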