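import Mathlib
import Groth.Agent.GrpHomLib.Artin
import Groth.Agent.KernelPairFlatLib.Sch

/-!
# Flat kernels: homomorphisms factor through fppf homomorphisms and closed immersions
-/

set_option autoImplicit false
set_option backward.isDefEq.respectTransparency false

noncomputable section

universe u

open CategoryTheory CategoryTheory.Limits MonoidalCategory CartesianMonoidalCategory AlgebraicGeometry
open scoped MonObj
open Groth.Agent.HomogDense

namespace Groth.Agent.GrpHom

theorem flat_kernelPair {S : Scheme.{u}} {G H : Over S} [GrpObj G] [GrpObj H] [Flat G.hom] (u : G ⟶ H) [IsMonHom u]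
    (hN : Flat (pullback.snd u.left (η[H] : 𝟙_ (Over S) ⟶ H).left)) : Flat (pullback.snd u.left u.left) := by
  let N : Over S := pullback u (η[H] : 𝟙_ (Over S) ⟶ H)
  let jN : N ⟶ G := pullback.fst _ _
  haveI : Flat N.hom := by
    have hk : IsPullback jN.left (pullback.snd u (η[H] : 𝟙_ (Over S) ⟶ H)).left u.left
        (η[H] : 𝟙_ (Over S) ⟶ H).left :=
      (IsPullback.of_hasPullback u (η[H] : 𝟙_ (Over S) ⟶ H)).map (Over.forget S)
    have h : Flat (pullback.snd u (η[H] : 𝟙_ (Over S) ⟶ H)).left := by
      rw [← hk.isoPullback_hom_snd]; infer_instance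
    have e : (pullback.snd u (η[H] : 𝟙_ (Over S) ⟶ H)).left = N.hom :=
      (Category.comp_id _).symm.trans (Over.w (pullback.snd u (η[H] : 𝟙_ (Over S) ⟶ H)))
    rwa [e] at h
  let a : N ⊗ G ⟶ G := (fst N G ≫ jN) * snd N G
  let b : N ⊗ G ⟶ G := snd N G
  have hj : jN ≫ u = toUnit N ≫ η[H] := by
    rw [pullback.condition, toUnit_unique (toUnit N) (pullback.snd u (η[H] : 𝟙_ (Over S) ⟶ H))]
  have hw : a ≫ u = b ≫ u := by
    rw [MonObj.mul_comp, Category.assoc, hj, ← Hom.one_def, MonObj.comp_one, one_mul]
  have sq : IsPullback a b u u := by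
    refine IsPullback.of_isLimit' ⟨hw⟩ (PullbackCone.IsLimit.mk _ (fun c =>
      lift (pullback.lift (c.fst * c.snd⁻¹) (toUnit _) (by
        rw [MonObj.mul_comp, GrpObj.inv_comp, c.condition, mul_inv_cancel, Hom.one_def])) c.snd)
      (fun c => ?_) (fun c => ?_) (fun c m hm₁ hm₂ => ?_))
    · simp [a, jN, MonObj.comp_mul]
    · simp [b]
    · refine CartesianMonoidalCategory.hom_ext _ _ ?_ (by simpa [b] using hm₂)
      rw [lift_fst]
      refine pullback.hom_ext ?_ (toUnit_unique _ _)
      rw [pullback.lift_fst, ← hm₁, ← hm₂]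
      simp [a, b, jN, MonObj.comp_mul]
  have hS : IsPullback a.left b.left u.left u.left := sq.map (Over.forget S)
  haveI : Flat b.left := MorphismProperty.pullback_snd (P := @Flat) N.hom G.hom inferInstance
  rw [← hS.isoPullback_inv_snd]
  infer_instance

variable {A : Type u} [CommRing A] [IsArtinianRing A] [IsLocalRing A] {G H : Over (Spec (CommRingCat.of A))}
  [GrpObj G] [GrpObj H] [LocallyOfFiniteType G.hom] [LocallyOfFiniteType H.hom]

theorem exists_fppf_image [Flat G.hom] (u : G ⟶ H) [IsMonHom u] [QuasiCompact u.left]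
    (hN : Flat (pullback.snd u.left (η[H] : 𝟙_ (Over (Spec (CommRingCat.of A))) ⟶ H).left)) :
    ∃ (C : Over (Spec (CommRingCat.of A))) (_ : GrpObj C) (p : G ⟶ C) (i : C ⟶ H), IsMonHom p ∧ IsMonHom i ∧
      p ≫ i = u ∧ Flat p.left ∧ Surjective p.left ∧ LocallyOfFinitePresentation p.left ∧
      IsClosedImmersion i.left := by
  haveI : Subsingleton ↥(Spec (CommRingCat.of A)) := NeutralSch.subsingleton_spec A
  haveI := lft_left' u
  let C : Over (Spec (CommRingCat.of A)) := Over.mk (u.left.imageι ≫ H.hom)
  let i : C ⟶ H := Over.homMk u.left.imageι rfl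
  let p : G ⟶ C := Over.homMk u.left.toImage (by
    show u.left.toImage ≫ u.left.imageι ≫ H.hom = G.hom
    rw [Scheme.Hom.toImage_imageι_assoc]
    exact Over.w u)
  haveI hi : IsClosedImmersion i.left := inferInstanceAs (IsClosedImmersion u.left.imageι)
  haveI hd : IsSchemeTheoreticallyDominant p.left := dominant_of_eq_toImage u.left
  haveI hq : QuasiCompact p.left := inferInstanceAs (QuasiCompact u.left.toImage)
  haveI : Mono i := Over.mono_of_mono_left i
  have hpi : p ≫ i = u := Over.OverMorphism.ext (Scheme.Hom.toImage_imageι u.left)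
  haveI : LocallyOfFiniteType C.hom := by rw [← Over.w i]; infer_instance
  haveI : IsLocallyNoetherian C.left := LocallyOfFiniteType.isLocallyNoetherian C.hom
  haveI : LocallyOfFiniteType p.left := by
    haveI : LocallyOfFiniteType (p.left ≫ C.hom) := by rw [Over.w p]; infer_instance
    exact locallyOfFiniteType_of_comp p.left C.hom
  haveI hps : Surjective p.left := by
    haveI : IsDominant p.left := inferInstance
    refine surjective_of_isDominant_of_isClosed_range p.left ?_
    have h : Set.range p.left.base = i.left.base ⁻¹' Set.range u.left.base := by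
      rw [← hpi, Over.comp_left, Scheme.Hom.comp_base, TopCat.coe_comp, Set.range_comp,
        Set.preimage_image_eq _ i.left.isClosedEmbedding.injective]
    rw [h]
    exact (isClosed_range_artinian u).preimage i.left.continuous
  haveI hwd : IsSchemeTheoreticallyDominant (G ◁ p).left := by
    haveI : Flat (pullback.snd G.hom C.hom) := inferInstance
    exact IsSchemeTheoreticallyDominant.of_isPullback (FinHom.isPullback_whiskerLeft G p).flip
  obtain ⟨act, hact⟩ := exists_factor i (G ◁ p) ((fst G C ≫ u) * (snd G C ≫ i)) (μ[G] ≫ p) (by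
    rw [Category.assoc, hpi, MonObj.comp_mul, whiskerLeft_fst_assoc, whiskerLeft_snd_assoc, hpi,
      IsMonHom.mul_hom, Hom.mul_def]
    congr 1)
  let a : AlgGrp.Action G C :=
    { act := act
      one_act := by
        rw [← cancel_mono i, Category.assoc, hact, MonObj.comp_mul, whiskerRight_fst_assoc,
          whiskerRight_snd_assoc, IsMonHom.one_hom, leftUnitor_hom]
        have h : fst (𝟙_ (Over (Spec (CommRingCat.of A)))) C ≫ η[H] = 1 := by
          rw [Hom.one_def, toUnit_unique (toUnit _) (fst _ C)]
        rw [h, one_mul]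
      mul_act := by
        rw [← cancel_mono i, Category.assoc, Category.assoc, Category.assoc, hact]
        simp only [MonObj.comp_mul, whiskerLeft_fst_assoc, whiskerLeft_snd_assoc, whiskerRight_fst_assoc,
          whiskerRight_snd_assoc, associator_hom_fst_assoc, hact, associator_hom_snd_fst_assoc,
          associator_hom_snd_snd_assoc, Category.assoc]
        rw [IsMonHom.mul_hom, ← mul_assoc, ← MonObj.comp_mul, Hom.mul_def]
        congr 2 }
  have hf : μ[G] ≫ p = (G ◁ p) ≫ a.act := by
    rw [← cancel_mono i, Category.assoc, Category.assoc, hpi, show a.act ≫ i = _ from hact, MonObj.comp_mul,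
      whiskerLeft_fst_assoc, whiskerLeft_snd_assoc, hpi, IsMonHom.mul_hom, Hom.mul_def]
    congr 1
  haveI : Flat (pullback.snd p.left p.left) := by
    have h := flat_kernelPair u hN
    have hk : IsKernelPair (p.left ≫ i.left) (pullback.fst u.left u.left) (pullback.snd u.left u.left) := by
      show IsPullback _ _ (p.left ≫ i.left) (p.left ≫ i.left)
      rw [← Over.comp_left, hpi]
      exact IsPullback.of_hasPullback _ _
    have hk' : IsPullback _ _ p.left p.left := hk.cancel_right_of_mono
    rw [← hk'.isoPullback_inv_snd]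
    infer_instance
  obtain ⟨pη, hη, -⟩ := exists_isMax_specializes (p.left.base (η[G].left.base (IsLocalRing.closedPoint A)))
  obtain ⟨x₀, hx₀⟩ := KernelPairFlat.exists_flatAt p.left hη
  haveI hflat : Flat p.left := HomTransl.flat_of_flatAt hf x₀ hx₀
  haveI hlfp : LocallyOfFinitePresentation p.left :=
    LocallyOfFinitePresentation.iff_locallyOfFiniteType.2 inferInstance
  haveI : IsSchemeTheoreticallyDominant (p ⊗ₘ p).left := by
    haveI : Flat (p ⊗ₘ p).left := by
      rw [Over.tensorHom_left]
      exact MorphismProperty.pullbackMap (P := @Flat) hflat hflat (Over.w p).symm (Over.w p).symm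
    haveI : Surjective (p ⊗ₘ p).left := by
      rw [Over.tensorHom_left]
      exact MorphismProperty.pullbackMap (P := @Surjective) hps hps (Over.w p).symm (Over.w p).symm
    exact ⟨MultLift.ker_eq_bot_of_flat_surjective _⟩
  obtain ⟨_, hmon⟩ := SubDesc.exists_grpObj_of_mono i
    (exists_factor i (p ⊗ₘ p) _ (μ[G] ≫ p) (by
      rw [Category.assoc, hpi, IsMonHom.mul_hom, MonObj.comp_mul, tensorHom_fst_assoc, tensorHom_snd_assoc, hpi,
        Hom.mul_def]
      congr 1))
    ⟨η[G] ≫ p, by rw [Category.assoc, hpi, IsMonHom.one_hom, Hom.one_def,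
      toUnit_unique (toUnit _) (𝟙 _), Category.id_comp]⟩
    (exists_factor i p _ (ι[G] ≫ p) (by
      rw [Category.assoc, hpi, GrpObj.comp_inv, hpi, Hom.inv_def, GrpObj.inv_hom]))
  have hp : IsMonHom p := by
    constructor
    · rw [← cancel_mono i, Category.assoc, hpi, IsMonHom.one_hom, IsMonHom.one_hom]
    · rw [← cancel_mono i, Category.assoc, Category.assoc, hpi, IsMonHom.mul_hom, IsMonHom.mul_hom,
        ← Category.assoc (p ⊗ₘ p), tensorHom_comp_tensorHom, hpi]
  exact ⟨C, _, p, i, hp, hmon, hpi, hflat, hps, hlfp, hi⟩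

end Groth.Agent.GrpHom
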